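import Groth.Agent.Lib.Separ.Geom
import Mathlib.LinearAlgebra.TensorProduct.Pi
import Mathlib.RingTheory.Flat.Basic

/-!
# Separating families under flat and faithfully flat pullbacks
-/

set_option autoImplicit false
set_option linter.style.haveILetI false
set_option backward.isDefEq.respectTransparency false

universe u

open CategoryTheory AlgebraicGeometry TensorProduct Opposite
open GrothLib.QCoh (appLinear)

namespace GrothLib.Separ5

open GrothLib.Separ

/-- Finite joint injectivity survives flat base change. -/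
theorem injBC_of_finite {B : Type u} [CommRing B] {M : Type u} [AddCommGroup M] [Module B M] {ι : Type u}
    [Finite ι] {N : ι → Type u} [∀ j, AddCommGroup (N j)] [∀ j, Module B (N j)] (ψ : ∀ j, M →ₗ[B] N j)
    (h : ∀ x, (∀ j, ψ j x = 0) → x = 0) (C : Type u) [CommRing C] [Algebra B C] [Module.Flat B C] :
    InjBC ψ C := by
  classical
  haveI := Fintype.ofFinite ι
  intro z hz
  have hinj : Function.Injective (LinearMap.pi ψ) := (injective_iff_map_eq_zero _).2 fun x hx =>
    h x fun j => congrFun hx j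
  refine Module.Flat.lTensor_preserves_injective_linearMap (M := C) (LinearMap.pi ψ) hinj ?_
  rw [map_zero]
  apply (TensorProduct.piRight B B C N).injective
  rw [map_zero]
  funext j
  have : ∀ w : C ⊗[B] M, TensorProduct.piRight B B C N ((LinearMap.pi ψ).lTensor C w) j = (ψ j).lTensor C w := by
    intro w
    induction w using TensorProduct.induction_on with
    | zero => simp
    | add a b ha hb => simp only [map_add, Pi.add_apply, ha, hb]
    | tmul a b => simp [LinearMap.lTensor_tmul]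
  rw [this, Pi.zero_apply]
  exact hz j

variable {X : Scheme.{u}} {F : X.Modules} {ι : Type u} {G : ι → X.Modules} (u : ∀ i, F ⟶ G i)
  [F.IsQuasicoherent] [∀ i, (G i).IsQuasicoherent] {Y : Scheme.{u}} (g : Y ⟶ X)

/-- Separation descends along faithfully flat morphisms. -/
theorem separated_of_pullback [Flat g] [Surjective g] (h : Separated (pullbackFamily u g)) : Separated u := by
  refine separated_of_basis u fun x O hx => ?_
  obtain ⟨U, hU, hxU, hUO⟩ := exists_isAffineOpen_mem_and_subset (x := x) (U := O) hx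
  refine ⟨U, hxU, hUO, fun t ht => ?_⟩
  let I : Ideal Γ(X, U) := (Submodule.span Γ(X, U) {t}).annihilator
  suffices hI : I = ⊤ by
    have h1 : (1 : Γ(X, U)) ∈ I := hI ▸ Submodule.mem_top
    rw [Submodule.mem_annihilator_span_singleton, one_smul] at h1
    exact h1
  by_contra hI
  obtain ⟨m, hm, hIm⟩ := Ideal.exists_le_maximal I hI
  let p : PrimeSpectrum Γ(X, U) := ⟨m, hm.isPrime⟩
  let z : X := hU.fromSpec p
  have hzU : z ∈ U := hU.range_fromSpec.le ⟨p, rfl⟩
  obtain ⟨y, hy⟩ := g.surjective z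
  obtain ⟨P, hP, hyP, hPU⟩ := exists_isAffineOpen_mem_and_subset (x := y) (U := g ⁻¹ᵁ U)
    (show g y ∈ U from hy.symm ▸ hzU)
  have e : P ≤ g ⁻¹ᵁ U := hPU
  letI : Algebra Γ(X, U) Γ(Y, P) := (g.appLE U P e).hom.toAlgebra
  haveI : Module.Flat Γ(X, U) Γ(Y, P) := Flat.flat_appLE g hU hP e
  have hz0 : (1 : Γ(Y, P)) ⊗ₜ[Γ(X, U)] t = 0 := by
    refine (QCoh.bijective_sectionsMap g F e rfl hU hP).1 ?_
    rw [map_zero]
    refine h P _ fun i => ?_
    show appLinear ((Scheme.Modules.pullback g).map (u i)) P _ = 0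
    rw [QCoh.sectionsMap_natural, LinearMap.baseChange_tmul, ht i, tmul_zero, map_zero]
  let φ : Γ(X, U) ⧸ I →ₗ[Γ(X, U)] Γ(F, U) := I.liftQ (LinearMap.toSpanSingleton _ _ t) fun a ha =>
    (Submodule.mem_annihilator_span_singleton t a).1 ha
  have hφ : Function.Injective φ := (injective_iff_map_eq_zero φ).2 fun c hc => by
    obtain ⟨c, rfl⟩ := Ideal.Quotient.mk_surjective c
    exact Ideal.Quotient.eq_zero_iff_mem.2 ((Submodule.mem_annihilator_span_singleton t c).2 hc)
  have h10 : (1 : Γ(Y, P)) ⊗ₜ[Γ(X, U)] (Ideal.Quotient.mk I 1) = 0 := by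
    refine Module.Flat.lTensor_preserves_injective_linearMap φ hφ ?_
    rw [map_zero, LinearMap.lTensor_tmul]
    show (1 : Γ(Y, P)) ⊗ₜ[Γ(X, U)] ((1 : Γ(X, U)) • t) = 0
    rw [one_smul]; exact hz0
  let q := hP.primeIdealOf ⟨y, hyP⟩
  have hq : I.map (algebraMap Γ(X, U) Γ(Y, P)) ≤ q.asIdeal := by
    refine (Ideal.map_mono hIm).trans (Ideal.map_le_iff_le_comap.2 ?_)
    have : PrimeSpectrum.comap (g.appLE U P e).hom q = hU.primeIdealOf ⟨g y, e hyP⟩ :=
      IsAffineOpen.comap_primeIdealOf_appLE U hU P hP e hyP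
    refine le_of_eq ?_
    have h2 : (hU.primeIdealOf ⟨g y, e hyP⟩) = p := by
      apply hU.fromSpec.isOpenEmbedding.injective
      rw [hU.fromSpec_primeIdealOf]
      exact hy
    exact (congrArg PrimeSpectrum.asIdeal (this.trans h2)).symm
  apply q.isPrime.ne_top
  let J := I.map (algebraMap Γ(X, U) Γ(Y, P))
  let π : Γ(X, U) ⧸ I →ₗ[Γ(X, U)] Γ(Y, P) ⧸ J := I.liftQ
    (LinearMap.toSpanSingleton Γ(X, U) (Γ(Y, P) ⧸ J) (Ideal.Quotient.mk J 1)) fun a ha => by
      rw [LinearMap.mem_ker, LinearMap.toSpanSingleton_apply, Algebra.smul_def]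
      exact mul_eq_zero_of_left (Ideal.Quotient.eq_zero_iff_mem.2 (Ideal.mem_map_of_mem _ ha)) _
  have h11 := congrArg (LinearMap.liftBaseChange Γ(Y, P) π) h10
  rw [map_zero, LinearMap.liftBaseChange_tmul, one_smul] at h11
  have h12 : (1 : Γ(Y, P)) ∈ J := by
    refine Ideal.Quotient.eq_zero_iff_mem.1 (Eq.trans ?_ h11)
    exact (one_smul Γ(X, U) (Ideal.Quotient.mk J 1)).symm
  exact Ideal.eq_top_iff_one _ |>.2 (hq h12)

/-- Finite separating families stay separating under flat pullback. -/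
theorem separated_pullback_of_finite [Finite ι] [Flat g] (h : Separated u) : Separated (pullbackFamily u g) := by
  refine separated_of_basis _ fun y O hy => ?_
  obtain ⟨U, hU, hyU, -⟩ := exists_isAffineOpen_mem_and_subset (x := g y) (U := ⊤) trivial
  obtain ⟨P, hP, hyP, hPO⟩ := exists_isAffineOpen_mem_and_subset (x := y) (U := O ⊓ g ⁻¹ᵁ U) ⟨hy, hyU⟩
  have e : P ≤ g ⁻¹ᵁ U := fun z hz => (hPO hz).2
  letI : Algebra Γ(X, U) Γ(Y, P) := (g.appLE U P e).hom.toAlgebra
  haveI : Module.Flat Γ(X, U) Γ(Y, P) := Flat.flat_appLE g hU hP e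
  exact ⟨P, hyP, fun z hz => (hPO hz).1, inj_pullback_sections u g hU hP e rfl
    (injBC_of_finite _ (Sep.inj (sep_sections u hU h)) _)⟩

end GrothLib.Separ5
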